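import Groth.Agent.HopfFF.Union
import Mathlib.RingTheory.PowerBasis
import Mathlib.RingTheory.Bialgebra.MonoidAlgebra
import Mathlib.Algebra.Polynomial.HasseDeriv
import Mathlib.Algebra.Polynomial.Taylor
import Mathlib.RingTheory.Flat.Basic

/-! Finite Hopf quotients of the coordinate rings of the additive and of the multiplicative group. -/

set_option autoImplicit false

universe u

open Polynomial TensorProduct

namespace Groth.Agent.GaGmQuot

variable {K : Type u} [Field K]

/-- `A` is isomorphic to itself over any finite Hopf quotient: the kernel is generated by the image of the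
augmentation ideal under an injective endomorphism. -/
def IsSelfQuot (K A : Type u) [Field K] [CommRing A] [HopfAlgebra K A] : Prop :=
  ∀ (B : Type u) [CommRing B] [HopfAlgebra K B] (φ : A →ₐc[K] B), Function.Surjective φ → Module.Finite K B →
    ∃ ψ : A →ₐc[K] A, Function.Injective ψ ∧
      RingHom.ker (φ : A →ₐ[K] B) = Ideal.span (ψ '' {c | Coalgebra.counit (R := K) c = 0})

theorem eq_zero_of_sum_tmul {M V : Type u} [AddCommGroup M] [Module K M] [AddCommGroup V] [Module K V]
    {n : ℕ} {v : Fin n → V} (hv : LinearIndependent K v) (m : Fin n → M)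
    (h : ∑ j, m j ⊗ₜ[K] v j = 0) : m = 0 := by
  let L : (Fin n → K) →ₗ[K] V := Fintype.linearCombination K v
  have hL : Function.Injective L := hv.fintypeLinearCombination_injective
  have h0 : ∑ j, m j ⊗ₜ[K] (Pi.single j (1 : K) : Fin n → K) = 0 := by
    refine Module.Flat.lTensor_preserves_injective_linearMap (M := M) L hL ?_
    rw [map_sum, map_zero]
    simpa [L, Fintype.linearCombination_apply, Pi.single_apply] using h
  funext i
  have := congrArg ((TensorProduct.rid K M).toLinearMap ∘ₗ LinearMap.lTensor M (LinearMap.proj i)) h0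
  simpa [Pi.single_apply, Finset.sum_ite_eq] using this

variable {A : Type u} [CommRing A] [HopfAlgebra K A]

theorem ker_le_of_hopf {B : Type u} [CommRing B] [HopfAlgebra K B] (φ : A →ₐc[K] B) (ψ : A →ₐc[K] A)
    (h : (φ : A →ₐ[K] B).comp (ψ : A →ₐ[K] A) = (Algebra.ofId K B).comp (Bialgebra.counitAlgHom K A)) :
    Ideal.span (ψ '' {c | Coalgebra.counit (R := K) c = 0}) ≤ RingHom.ker (φ : A →ₐ[K] B) := by
  rw [Ideal.span_le]
  rintro _ ⟨c, hc, rfl⟩
  have := DFunLike.congr_fun h c
  rw [AlgHom.comp_apply, AlgHom.comp_apply, Bialgebra.counitAlgHom_apply, show Coalgebra.counit (R := K) c = 0 from hc,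
    map_zero] at this
  exact this

/-- the primitive case: the coordinate ring of `𝔾ₐ` -/
theorem isSelfQuot_of_primitive (x : A) (hbij : Function.Bijective (aeval x : K[X] →ₐ[K] A))
    (hco : Coalgebra.counit (R := K) x = 0)
    (hcm : Coalgebra.comul (R := K) x = x ⊗ₜ 1 + 1 ⊗ₜ x) : IsSelfQuot K A := by
  intro B _ _ φ hφ hfin
  set y := φ x
  have haev : ∀ p : K[X], φ (aeval x p) = aeval y p := fun p => (aeval_algHom_apply (φ : A →ₐ[K] B) x p).symm
  have hy : IsIntegral K y := Algebra.IsIntegral.isIntegral y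
  set f := minpoly K y with hf
  set d := f.natDegree
  have hmon : f.Monic := minpoly.monic hy
  have : Nontrivial B := (Bialgebra.counitAlgHom K B).toRingHom.domain_nontrivial
  have hd : 0 < d := minpoly.natDegree_pos hy
  have hcy : Coalgebra.counit (R := K) y = 0 := by rw [CoalgHomClass.counit_comp_apply, hco]
  have hf0 : f.coeff 0 = 0 := by
    have := congrArg (Bialgebra.counitAlgHom K B) (minpoly.aeval K y)
    rw [map_zero, ← aeval_algHom_apply, Bialgebra.counitAlgHom_apply, hcy, ← hf] at this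
    rwa [coe_aeval_eq_eval, ← coeff_zero_eq_eval_zero] at this
  -- the coefficients of the non-additive part
  let g : ℕ → K[X] := fun j => hasseDeriv j f - C (f.coeff j)
  have hdeg : ∀ j, 1 ≤ j → (g j).natDegree < d := fun j hj => by
    refine lt_of_le_of_lt (natDegree_sub_le _ _) (max_lt ?_ (by rw [natDegree_C]; exact hd))
    exact lt_of_le_of_lt (natDegree_hasseDeriv_le f j) (by omega)
  have hgd : g d = 0 := by
    change hasseDeriv d f - C (f.coeff d) = 0
    rw [sub_eq_zero]
    ext n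
    rw [hasseDeriv_coeff, coeff_C]
    rcases Nat.eq_zero_or_pos n with rfl | hn
    · simp
    · rw [if_neg hn.ne', f.coeff_eq_zero_of_natDegree_lt (by omega), mul_zero]
  have hexp : ∀ (S : Type u) [CommRing S] [Algebra K S] (a b : S),
      aeval (a + b) f = aeval a f + aeval b f + ∑ j : Fin (d - 1), aeval a (g (j + 1)) * b ^ ((j : ℕ) + 1) := by
    intro S _ _ a b
    have h1 : aeval (a + b) f = ∑ j ∈ Finset.range (d + 1), aeval a (hasseDeriv j f) * b ^ j := by
      rw [← eval_map_algebraMap, add_comm, ← taylor_eval,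
        eval_eq_sum_range' (n := d + 1) (Nat.lt_succ_of_le ((natDegree_taylor _ _).le.trans natDegree_map_le))]
      refine Finset.sum_congr rfl fun j _ => ?_
      rw [taylor_coeff, show hasseDeriv j (f.map (algebraMap K S)) = (hasseDeriv j f).map (algebraMap K S) from
        Polynomial.ext fun n => by simp [hasseDeriv_coeff, coeff_map], eval_map_algebraMap]
    have h2 : aeval b f = ∑ j ∈ Finset.range (d + 1), algebraMap K S (f.coeff j) * b ^ j := by
      rw [aeval_eq_sum_range]
      exact Finset.sum_congr rfl fun j _ => Algebra.smul_def _ _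
    have h3 : aeval (a + b) f - aeval b f = ∑ j ∈ Finset.range (d + 1), aeval a (g j) * b ^ j := by
      rw [h1, h2, ← Finset.sum_sub_distrib]
      refine Finset.sum_congr rfl fun j _ => ?_
      rw [map_sub, aeval_C, sub_mul]
    obtain ⟨e, he⟩ : ∃ e, d = e + 1 := ⟨d - 1, by omega⟩
    have hg0 : g 0 = f := by simp [g, hasseDeriv_zero', hf0]
    rw [Finset.sum_range_succ, hgd, map_zero, zero_mul, add_zero, he, Finset.sum_range_succ', hg0, pow_zero, mul_one] at h3
    rw [Fin.sum_univ_eq_sum_range (fun j => aeval a (g (j + 1)) * b ^ (j + 1)), he, Nat.add_sub_cancel]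
    linear_combination h3
  have hfy : aeval y f = 0 := minpoly.aeval K y
  have hg : ∀ j : Fin (d - 1), g (j + 1) = 0 := by
    have hz : aeval (y ⊗ₜ[K] (1 : B) + (1 : B) ⊗ₜ[K] y) f = 0 := by
      have h1 : Coalgebra.comul (R := K) y = y ⊗ₜ[K] (1 : B) + (1 : B) ⊗ₜ[K] y := by
        rw [← CoalgHomClass.map_comp_comul_apply φ x, hcm]; simp [y]
      rw [← h1, ← Bialgebra.comulAlgHom_apply, aeval_algHom_apply, hfy, map_zero]
    have hl : ∀ p : K[X], aeval (y ⊗ₜ[K] (1 : B)) p = (aeval y p) ⊗ₜ[K] (1 : B) := fun p =>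
      aeval_algHom_apply (Algebra.TensorProduct.includeLeft : B →ₐ[K] B ⊗[K] B) y p
    have hr : ∀ p : K[X], aeval ((1 : B) ⊗ₜ[K] y) p = (1 : B) ⊗ₜ[K] (aeval y p) := fun p =>
      aeval_algHom_apply (Algebra.TensorProduct.includeRight : B →ₐ[K] B ⊗[K] B) y p
    rw [hexp, hl, hr, hfy, zero_tmul, tmul_zero, zero_add, zero_add] at hz
    simp only [hl, Algebra.TensorProduct.tmul_pow, one_pow, Algebra.TensorProduct.tmul_mul_tmul, mul_one, one_mul] at hz
    intro j
    have hli : LinearIndependent K fun i : Fin (d - 1) => y ^ ((i : ℕ) + 1) :=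
      (linearIndependent_pow (K := K) y).comp (fun i : Fin (d - 1) => (⟨(i : ℕ) + 1, by
        have := i.2; omega⟩ : Fin d)) fun a b hab => Fin.ext (by simpa using congrArg Fin.val hab)
    have h0 : aeval y (g ((j : ℕ) + 1)) = 0 := congrFun (eq_zero_of_sum_tmul hli _ hz) j
    exact eq_zero_of_dvd_of_natDegree_lt (minpoly.dvd K y h0) (hdeg _ (by omega))
  have hadd : ∀ (S : Type u) [CommRing S] [Algebra K S] (a b : S), aeval (a + b) f = aeval a f + aeval b f := by
    intro S _ _ a b
    rw [hexp, Finset.sum_eq_zero fun j _ => by rw [hg j, map_zero, zero_mul], add_zero]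
  -- the endomorphism
  let E : K[X] ≃ₐ[K] A := AlgEquiv.ofBijective (aeval x) hbij
  have hEx : E X = x := aeval_X x
  let ψ0 : A →ₐ[K] A := (aeval (aeval x f)).comp E.symm.toAlgHom
  have hψx : ψ0 x = aeval x f := by
    change aeval (aeval x f) (E.symm x) = _
    rw [← hEx, E.symm_apply_apply, aeval_X, hEx]
  have hext : ∀ {S : Type u} [CommRing S] [Algebra K S] (u v : A →ₐ[K] S), u x = v x → u = v := by
    intro S _ _ u v h
    refine AlgHom.ext fun a => ?_
    obtain ⟨p, rfl⟩ := hbij.2 a
    rw [← aeval_algHom_apply, ← aeval_algHom_apply, h]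
  let ψ : A →ₐc[K] A := BialgHom.ofAlgHom ψ0 (hext _ _ (by
    rw [AlgHom.comp_apply, hψx, ← aeval_algHom_apply, Bialgebra.counitAlgHom_apply, hco,
      coe_aeval_eq_eval, ← coeff_zero_eq_eval_zero, hf0])) (hext _ _ (by
    simp only [AlgHom.comp_apply, Bialgebra.comulAlgHom_apply]
    rw [hcm, map_add, Algebra.TensorProduct.map_tmul, Algebra.TensorProduct.map_tmul, map_one, hψx,
      ← Bialgebra.comulAlgHom_apply K A, ← aeval_algHom_apply, Bialgebra.comulAlgHom_apply, hcm, hadd]
    exact congrArg₂ (· + ·) (aeval_algHom_apply (Algebra.TensorProduct.includeLeft : A →ₐ[K] A ⊗[K] A) x f).symm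
      (aeval_algHom_apply (Algebra.TensorProduct.includeRight : A →ₐ[K] A ⊗[K] A) x f).symm))
  have hψ : ∀ p : K[X], ψ (aeval x p) = aeval x (p.comp f) := fun p => by
    change ψ0 (aeval x p) = _
    rw [← aeval_algHom_apply, hψx, aeval_comp]
  refine ⟨ψ, ?_, le_antisymm ?_ (ker_le_of_hopf φ ψ (hext _ _ ?_))⟩
  · intro a b hab
    obtain ⟨p, rfl⟩ := hbij.2 a
    obtain ⟨q, rfl⟩ := hbij.2 b
    rw [hψ, hψ] at hab
    have h := hbij.1 hab
    by_contra hne
    have h0 : (p - q).comp f = 0 := by rw [sub_comp, h, sub_self]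
    rcases comp_eq_zero_iff.1 h0 with h1 | ⟨-, h1⟩
    · exact hne (by rw [sub_eq_zero.1 h1])
    · have := congrArg natDegree h1
      rw [natDegree_C] at this
      omega
  · intro a ha
    obtain ⟨p, rfl⟩ := hbij.2 a
    have h0 : aeval y p = 0 := by rw [← haev]; exact ha
    obtain ⟨q, hq⟩ := minpoly.dvd K y h0
    rw [hq, map_mul]
    exact Ideal.mul_mem_right _ _ (Ideal.subset_span ⟨x, hco, hψx⟩)
  · rw [AlgHom.comp_apply, AlgHom.comp_apply, Bialgebra.counitAlgHom_apply, hco, map_zero]
    change φ (ψ0 x) = 0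
    rw [hψx, haev, hfy]

/-- the multiplicative case: the coordinate ring of `𝔾ₘ` -/
theorem isSelfQuot_of_groupLike {G : Type u} [CommGroup G] (γ : G) (hγ : ∀ g : G, ∃! n : ℤ, γ ^ n = g) :
    IsSelfQuot K (MonoidAlgebra K G) := by
  intro B _ _ φ hφ hfin
  set T : MonoidAlgebra K G := MonoidAlgebra.of K G γ with hT
  set y := φ T
  have haev : ∀ p : K[X], φ (aeval T p) = aeval y p := fun p =>
    (aeval_algHom_apply (φ : MonoidAlgebra K G →ₐ[K] B) T p).symm
  have hy : IsIntegral K y := Algebra.IsIntegral.isIntegral y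
  set f := minpoly K y with hf
  set d := f.natDegree with hd0
  have hmon : f.Monic := minpoly.monic hy
  have : Nontrivial B := (Bialgebra.counitAlgHom K B).toRingHom.domain_nontrivial
  have hd : 0 < d := minpoly.natDegree_pos hy
  have hyu : IsUnit y := (IsUnit.map (MonoidAlgebra.of K G) (Group.isUnit γ)).map φ
  have hcy : Coalgebra.counit (R := K) y = 1 := by
    rw [CoalgHomClass.counit_comp_apply, hT]; simp
  have hcm : Coalgebra.comul (R := K) y = y ⊗ₜ[K] y := by
    rw [← CoalgHomClass.map_comp_comul_apply φ T, hT]; simp [y, hT]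
  have hfy : aeval y f = 0 := minpoly.aeval K y
  have hc0 : f.coeff 0 ≠ 0 := by
    intro h0
    obtain ⟨q, hq⟩ := X_dvd_iff.2 h0
    have h1 : aeval y q = 0 := by
      rw [hq, map_mul, aeval_X] at hfy
      exact (hyu.mul_right_eq_zero).1 hfy
    have hq0 : q ≠ 0 := fun h => hmon.ne_zero (by rw [hq, h, mul_zero])
    have h2 := natDegree_le_of_dvd (minpoly.dvd K y h1) hq0
    rw [← hf, hq, natDegree_X_mul hq0] at h2
    omega
  have hyd : y ^ d = -∑ j : Fin d, f.coeff j • y ^ (j : ℕ) := by
    have h := hfy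
    rw [aeval_eq_sum_range, Finset.sum_range_succ, ← hd0, show f.coeff d = 1 from hmon, one_smul,
      ← Fin.sum_univ_eq_sum_range (fun j => f.coeff j • y ^ j)] at h
    exact eq_neg_of_add_eq_zero_right h
  have hyd1 : y ^ d = 1 := by
    have hz : ∑ j : Fin d, (f.coeff j • (y ^ (j : ℕ) - y ^ d)) ⊗ₜ[K] (y ^ (j : ℕ)) = 0 := by
      have h1 : aeval (y ⊗ₜ[K] y) f = 0 := by
        rw [← hcm, ← Bialgebra.comulAlgHom_apply, aeval_algHom_apply, hfy, map_zero]
      rw [aeval_eq_sum_range, Finset.sum_range_succ, ← hd0, show f.coeff d = 1 from hmon, one_smul,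
        ← Fin.sum_univ_eq_sum_range (fun j => f.coeff j • (y ⊗ₜ[K] y) ^ j), Algebra.TensorProduct.tmul_pow] at h1
      simp only [Algebra.TensorProduct.tmul_pow] at h1
      have h2 : (y ^ d) ⊗ₜ[K] (y ^ d) = -∑ j : Fin d, (f.coeff j • y ^ d) ⊗ₜ[K] (y ^ (j : ℕ)) := by
        conv_lhs => arg 3; rw [hyd]
        rw [tmul_neg, tmul_sum]
        exact congrArg Neg.neg (Finset.sum_congr rfl fun j _ => by rw [tmul_smul, smul_tmul'])
      rw [h2, ← sub_eq_add_neg, ← Finset.sum_sub_distrib] at h1
      rw [← h1]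
      exact Finset.sum_congr rfl fun j _ => by rw [smul_sub, sub_tmul, smul_tmul']
    have h := congrFun (eq_zero_of_sum_tmul (V := B) (v := fun j : Fin d => y ^ (j : ℕ)) (linearIndependent_pow (K := K) y) (fun j => f.coeff j • (y ^ (j : ℕ) - y ^ d)) hz) ⟨0, hd⟩
    have h2 : f.coeff 0 • ((1 : B) - y ^ d) = 0 := by simpa using h
    exact (sub_eq_zero.1 ((smul_eq_zero.1 h2).resolve_left hc0)).symm
  let ψ : MonoidAlgebra K G →ₐc[K] MonoidAlgebra K G := MonoidAlgebra.mapDomainBialgHom K (powMonoidHom d)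
  have hψT : ∀ g : G, ψ (MonoidAlgebra.of K G g) = MonoidAlgebra.of K G (g ^ d) := fun g => by
    simp [ψ]
  have hgen : ∀ a : MonoidAlgebra K G, ∃ (N : ℕ) (p : K[X]), T ^ N * a = aeval T p := by
    intro a
    induction a using MonoidAlgebra.induction_on with
    | of g =>
      obtain ⟨n, hn, -⟩ := hγ g
      refine ⟨n.natAbs, X ^ (n + n.natAbs).toNat, ?_⟩
      rw [hT, map_pow, aeval_X, ← map_pow, ← map_pow, ← map_mul, ← hn, ← zpow_natCast, ← zpow_natCast, ← zpow_add]
      congr 2
      omega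
    | add a b ha hb =>
      obtain ⟨N, p, hp⟩ := ha
      obtain ⟨M, q, hq⟩ := hb
      refine ⟨N + M, X ^ M * p + X ^ N * q, ?_⟩
      rw [map_add, map_mul, map_mul, map_pow, map_pow, aeval_X, ← hp, ← hq, pow_add]; ring
    | smul c a ha =>
      obtain ⟨N, p, hp⟩ := ha
      exact ⟨N, c • p, by rw [mul_smul_comm, hp, map_smul]⟩
  refine ⟨ψ, ?_, le_antisymm ?_ (ker_le_of_hopf φ ψ ?_)⟩
  · refine MonoidAlgebra.mapDomain_injective ?_
    intro g h hgh
    obtain ⟨n, hn, -⟩ := hγ g
    obtain ⟨m, hm, -⟩ := hγ h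
    simp only [powMonoidHom_apply, ← hn, ← hm, ← zpow_natCast, ← zpow_mul] at hgh
    obtain ⟨l, -, hl⟩ := hγ (γ ^ (n * d))
    have := (hl _ rfl).trans (hl _ hgh.symm).symm
    rw [← hn, ← hm, mul_right_cancel₀ (by omega) this]
  · intro a ha
    obtain ⟨N, p, hp⟩ := hgen a
    have h0 : aeval y p = 0 := by
      rw [← haev, ← hp, map_mul, show φ a = 0 from ha, mul_zero]
    obtain ⟨q, hq⟩ := minpoly.dvd K y h0
    have hfd : f = X ^ d - 1 := by
      have h1 : f ∣ X ^ d - 1 := minpoly.dvd K y (by simp [hyd1])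
      have h2 := eq_of_monic_of_dvd_of_natDegree_le hmon (monic_X_pow_sub_C (1 : K) hd.ne')
        (by rw [map_one]; exact h1) (by rw [natDegree_X_pow_sub_C])
      rw [map_one] at h2
      first | exact h2 | exact h2.symm
    have hu : IsUnit (T ^ N) := (IsUnit.map (MonoidAlgebra.of K G) (Group.isUnit γ)).pow N
    obtain ⟨v, hv⟩ := hu.exists_left_inv
    have hmem : T ^ d - 1 ∈ Ideal.span (ψ '' {c | Coalgebra.counit (R := K) c = 0}) :=
      Ideal.subset_span ⟨T - 1, by simp [hT], by rw [map_sub, map_one, hT, hψT, map_pow]⟩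
    rw [show a = v * (T ^ N * a) by rw [← mul_assoc, hv, one_mul], hp, hq, map_mul, ← hf, hfd]
    refine Ideal.mul_mem_left _ _ (Ideal.mul_mem_right _ _ ?_)
    simpa using hmem
  · have hone : ∀ g : G, φ (MonoidAlgebra.of K G (g ^ d)) = 1 := fun g => by
      obtain ⟨n, rfl, -⟩ := hγ g
      have h1 : ((φ : MonoidAlgebra K G →* B).comp ((MonoidAlgebra.of K G).comp (powMonoidHom d))).toHomUnits γ = 1 :=
        Units.ext (by simp only [MonoidHom.coe_toHomUnits, MonoidHom.comp_apply, powMonoidHom_apply]; rw [Units.val_one, map_pow]; exact (map_pow φ T d).trans hyd1)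
      have h2 := congrArg Units.val (map_zpow ((φ : MonoidAlgebra K G →* B).comp ((MonoidAlgebra.of K G).comp (powMonoidHom d))).toHomUnits γ n)
      rw [h1, one_zpow, Units.val_one] at h2
      exact h2
    refine AlgHom.ext fun a => ?_
    induction a using MonoidAlgebra.induction_on with
    | of g =>
      change φ (ψ (MonoidAlgebra.of K G g)) = algebraMap K B (Coalgebra.counit (R := K) (MonoidAlgebra.of K G g))
      rw [hψT, hone]; simp
    | add a b ha hb => rw [map_add, map_add, ha, hb]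
    | smul c a ha => rw [map_smul, map_smul, ha]

end Groth.Agent.GaGmQuot
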