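import Groth.Agent.GaGmQuot.Hopf
import Groth.Agent.NormalQuot.Scheme
import Groth.Agent.MultHopf.Bridge
import Groth.Prelude.Def_Red2
import Mathlib.AlgebraicGeometry.Morphisms.Finite
import Mathlib.LinearAlgebra.SymmetricAlgebra.Basis

/-! Quotients of `𝔾ₐ` and `𝔾ₘ` by finite subgroup schemes. -/

set_option autoImplicit false
set_option backward.isDefEq.respectTransparency.types false

universe u

open CategoryTheory CategoryTheory.Limits MonoidalCategory CartesianMonoidalCategory MonObj AlgebraicGeometry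
open TensorProduct

namespace Groth.Agent.GaGmQuot

open Groth.Agent.NormalQuot

theorem exists_quotient_of_isSelfQuot {K : Type u} [Field K] {A : Type u} [CommRing A] [HopfAlgebra K A]
    (hA : IsSelfQuot K A) (G H : Over (Spec (CommRingCat.of K))) [GrpObj G] [GrpObj H]
    (e : Grp.mk G ≅ Grp.mk (specGrp K A)) (i : H ⟶ G) [IsMonHom i] [Mono i] [IsFinite H.hom] :
    ∃ φ : G ⟶ G, IsMonHom φ ∧ AlgGrp.IsKernel i φ ∧ Flat φ.left ∧ Surjective φ.left := by
  let iA : specGrp K A ≅ G := ⟨e.inv.hom.hom, e.hom.hom.hom,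
    congrArg (fun z => z.hom.hom) e.inv_hom_id, congrArg (fun z => z.hom.hom) e.hom_inv_id⟩
  have : IsMonHom iA.hom := e.inv.hom.isMonHom_hom
  have : IsMonHom iA.inv := e.hom.hom.isMonHom_hom
  have : IsIso iA.hom.left := ((Over.forget _).mapIso iA).isIso_hom
  have : IsIso iA.inv.left := ((Over.forget _).mapIso iA).isIso_inv
  have : IsAffine (specGrp K A).left := inferInstanceAs (IsAffine (Spec (CommRingCat.of A)))
  have hGaff : IsAffine G.left := IsAffine.of_isIso iA.inv.left
  have hHaff : IsAffine H.left := isAffine_of_isAffineHom H.hom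
  have hfin : IsFinite (i.left ≫ G.hom) := by rw [Over.w i]; infer_instance
  have : IsAffineHom G.hom := isAffineHom_of_isAffine G.hom
  have : IsSeparated G.hom := inferInstance
  have hfi : IsFinite i.left := IsFinite.of_comp i.left G.hom
  have : Mono i.left := (Over.forget _).map_mono i
  have hci : IsClosedImmersion i.left := (IsClosedImmersion.iff_isFinite_and_mono i.left).2 ⟨hfi, inferInstance⟩
  obtain ⟨⟨HB⟩, ⟨eB⟩⟩ := (essImage_hopfSpec (G := Grp.mk H)).2 hHaff
  let iB : specGrp K HB ≅ H := ⟨eB.hom.hom.hom, eB.inv.hom.hom,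
    congrArg (fun z => z.hom.hom) eB.hom_inv_id, congrArg (fun z => z.hom.hom) eB.inv_hom_id⟩
  have : IsMonHom iB.hom := eB.hom.hom.isMonHom_hom
  have : IsMonHom iB.inv := eB.inv.hom.isMonHom_hom
  have : IsIso iB.hom.left := ((Over.forget _).mapIso iB).isIso_hom
  obtain ⟨φ, hφ⟩ := exists_specHom (iB.hom ≫ i ≫ iA.inv)
  have hci' : IsClosedImmersion (specHom φ).left := by
    rw [← hφ, Over.comp_left, Over.comp_left]; infer_instance
  have hsurj := surjective_of_isClosedImmersion φ
  have hB : Module.Finite K HB := by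
    have hw : Spec.map (CommRingCat.ofHom (algebraMap K HB)) = iB.hom.left ≫ H.hom := (Over.w iB.hom).symm
    have h : IsFinite (Spec.map (CommRingCat.ofHom (algebraMap K HB))) := by
      rw [hw]; exact (MorphismProperty.cancel_left_of_respectsIso @IsFinite iB.hom.left H.hom).2 ‹_›
    exact RingHom.finite_algebraMap.1 ((IsFinite.SpecMap_iff _).1 h)
  obtain ⟨ψ, hψi, hker⟩ := hA HB φ hsurj hB
  have hff := HopfFF.faithfullyFlat_of_injective' ψ hψi
  have : IsMonHom (specHom ψ) := isMonHom_specHom ψ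
  refine ⟨iA.inv ≫ specHom ψ ≫ iA.hom, inferInstance, ?_, ?_, ?_⟩
  · refine IsPullback.of_iso (isKernel_specHom φ ψ hsurj hker) iB iA (Iso.refl _) iA ?_ ?_ ?_ ?_
    · rw [← hφ]; simp
    · exact toUnit_unique _ _
    · simp
    · rw [Iso.refl_hom, Category.id_comp]; exact IsMonHom.one_hom iA.hom
  · have : Flat (specHom ψ).left := by rw [specHom_left]; exact Flat.SpecMap_iff.2 hff.flat
    rw [Over.comp_left, Over.comp_left]; infer_instance
  · have : Surjective (specHom ψ).left := by
      rw [specHom_left]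
      exact ⟨fun x => by
        obtain ⟨y, hy⟩ := (RingHom.FaithfullyFlat.iff_flat_and_comap_surjective.1 hff).2 x
        exact ⟨y, hy⟩⟩
    rw [Over.comp_left, Over.comp_left]; infer_instance

theorem exists_ga_aux (R K : Type u) [CommRing R] [Field K] [Algebra R K] :
    ∃ (A : Type u) (_ : CommRing A) (_ : HopfAlgebra K A),
      IsSelfQuot K A ∧ Nonempty (Grp.mk (Red.bc (Spec.map (CommRingCat.ofHom (algebraMap R K)))
        (MultHopf.hspec R (SymmetricAlgebra R R))) ≅ Grp.mk (specGrp K A)) := by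
  refine ⟨K ⊗[R] SymmetricAlgebra R R, inferInstance, inferInstance, ?_, ⟨MultHopf.bcSpec R K _⟩⟩
  let x : K ⊗[R] SymmetricAlgebra R R := 1 ⊗ₜ SymmetricAlgebra.ι R R 1
  let ψ : SymmetricAlgebra R R ≃ₐ[R] Polynomial R :=
    (SymmetricAlgebra.equivMvPolynomial (Module.Basis.singleton PUnit.{u+1} R)).trans
      (MvPolynomial.uniqueAlgEquiv R PUnit.{u+1})
  let φ : (K ⊗[R] SymmetricAlgebra R R) ≃ₐ[K] Polynomial K :=
    (Algebra.TensorProduct.congr AlgEquiv.refl ψ).trans (polyEquivTensor' R K).symm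
  have hx : φ x = Polynomial.X := by
    have h1 : ψ (SymmetricAlgebra.ι R R 1) = Polynomial.X := by
      have : (1 : R) = (Module.Basis.singleton PUnit.{u+1} R) PUnit.unit := by
        rw [Module.Basis.singleton_apply]
      rw [this, AlgEquiv.trans_apply, SymmetricAlgebra.equivMvPolynomial_ι_apply]
      simp
    simp [φ, x, h1]
  refine isSelfQuot_of_primitive x ?_ ?_ ?_
  · have he : (Polynomial.aeval x : Polynomial K →ₐ[K] K ⊗[R] SymmetricAlgebra R R) = φ.symm.toAlgHom :=
      Polynomial.algHom_ext (by rw [Polynomial.aeval_X]; exact (φ.symm_apply_apply x).symm.trans (congrArg φ.symm hx))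
    rw [he]; exact φ.symm.bijective
  · simp [x]
  · simp [x, TensorProduct.comul_tmul, TensorProduct.tmul_add, Algebra.TensorProduct.one_def]

theorem exists_ga (K : Type u) [Field K] :
    ∃ (A : Type u) (_ : CommRing A) (_ : HopfAlgebra K A),
      IsSelfQuot K A ∧ Nonempty (Grp.mk (Red.Ga (Spec (CommRingCat.of K))) ≅ Grp.mk (specGrp K A)) := by
  letI : Algebra (ULift.{u} ℤ) K := ((Int.castRingHom K).comp ULift.ringEquiv.toRingHom).toAlgebra
  obtain ⟨A, _, _, hA, ⟨e⟩⟩ := exists_ga_aux (ULift.{u} ℤ) K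
  exact ⟨A, inferInstance, inferInstance, hA, ⟨MultHopf.bcCongr
    (specULiftZIsTerminal.hom_ext _ (Spec.map (CommRingCat.ofHom (algebraMap (ULift.{u} ℤ) K)))) _ ≪≫ e⟩⟩

theorem exists_gm (K : Type u) [Field K] :
    ∃ (A : Type u) (_ : CommRing A) (_ : HopfAlgebra K A),
      IsSelfQuot K A ∧ Nonempty (Grp.mk (Red.Gm (Spec (CommRingCat.of K))) ≅ Grp.mk (specGrp K A)) := by
  refine ⟨MonoidAlgebra K (ULift.{u} (Multiplicative ℤ)), inferInstance, inferInstance,
    isSelfQuot_of_groupLike (ULift.up (Multiplicative.ofAdd 1)) fun g => ⟨g.down.toAdd, ?_, fun n hn => ?_⟩,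
    ⟨MultHopf.bcDiag _ K _ ℤ⟩⟩
  · refine ULift.ext _ _ ?_
    simp [← ofAdd_zsmul]
  · rw [← hn]
    simp [← ofAdd_zsmul]

end Groth.Agent.GaGmQuot
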